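/-
Towards the theorem of Feit-Thompson and Blichfeldt (small faithful degree forces a normal
Sylow subgroup): the configuration of a minimal counterexample.
-/
import Cfsg.Agent.Lib.Blichfeldt.Monomial
import Cfsg.Agent.Lib.CharApp.Schur
import Cfsg.Agent.S0887

set_option autoImplicit false

namespace Cfsg.Agent.BlichfeldtSylow

open Cfsg Cfsg.Agent.Char
open scoped commutatorElement

variable {G : Type*} [Group G] [Finite G] {p : ℕ} [Fact p.Prime]

/-- If every proper subgroup has commuting `p`-elements and `P` is an abelian Sylow `p`-subgroup,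
then two commuting non-central elements lie in only one conjugate of `P`. -/
theorem conj_mem_of_commute (P : Sylow p G) (hab : ∀ Q : Sylow p G, ∀ x ∈ Q, ∀ y ∈ Q, x * y = y * x)
    (huniq : ∀ L : Subgroup G, L ≠ ⊤ → Subsingleton (Sylow p L))
    {Q : Sylow p G} {x y : G} (hx : x ∈ P) (hxZ : x ∉ Subgroup.center G) (hy : y ∈ Q)
    (hyZ : y ∉ Subgroup.center G) (hxy : x * y = y * x) : P = Q := by
  have key : ∀ (A B : Sylow p G) (z : G), z ∈ A → z ∈ B → z ∉ Subgroup.center G → A = B := by
    intro A B z hA hB hz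
    set L := Subgroup.centralizer ({z} : Set G) with hL
    have hLtop : L ≠ ⊤ := by
      intro h
      refine hz (Subgroup.mem_center_iff.mpr fun g => ?_)
      exact Subgroup.mem_centralizer_singleton_iff.mp (h ▸ Subgroup.mem_top g : g ∈ L)
    have hle : ∀ C : Sylow p G, z ∈ C → (C : Subgroup G) ≤ L := fun C hC c hc =>
      Subgroup.mem_centralizer_singleton_iff.mpr (hab C c hc z hC)
    haveI := huniq L hLtop
    have h : A.subtype (hle A hA) = B.subtype (hle B hB) := Subsingleton.elim _ _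
    exact Sylow.subtype_injective h
  set L := Subgroup.centralizer ({x} : Set G) with hL
  have hLtop : L ≠ ⊤ := by
    intro h
    refine hxZ (Subgroup.mem_center_iff.mpr fun g => ?_)
    exact Subgroup.mem_centralizer_singleton_iff.mp (h ▸ Subgroup.mem_top g : g ∈ L)
  haveI := huniq L hLtop
  have hPL : (P : Subgroup G) ≤ L := fun c hc =>
    Subgroup.mem_centralizer_singleton_iff.mpr (hab P c hc x hx)
  have hyL : y ∈ L := Subgroup.mem_centralizer_singleton_iff.mpr hxy.symm
  have hyp : IsPGroup p (Subgroup.zpowers (⟨y, hyL⟩ : L)) := by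
    obtain ⟨k, hk⟩ := Q.isPGroup' ⟨y, hy⟩
    refine IsPGroup.of_card (n := Nat.log p (orderOf y)) ?_
    rw [Nat.card_zpowers, Subgroup.orderOf_mk]
    obtain ⟨b, -, hb⟩ := (Nat.dvd_prime_pow Fact.out).1
      (orderOf_dvd_of_pow_eq_one (show y ^ p ^ k = 1 from congrArg Subtype.val hk))
    rw [hb, Nat.log_pow (Fact.out : p.Prime).one_lt]
  obtain ⟨S, hS⟩ := hyp.exists_le_sylow
  have hyP : y ∈ P := by
    have := hS (Subgroup.mem_zpowers (⟨y, hyL⟩ : L))
    rw [Subsingleton.elim S (P.subtype hPL)] at this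
    exact this
  exact key P Q y hyP hy hyZ

/-- In a proper subgroup the `p`-elements commute. -/
theorem commute_of_proper (hab : ∀ Q : Sylow p G, ∀ x ∈ Q, ∀ y ∈ Q, x * y = y * x)
    (huniq : ∀ L : Subgroup G, L ≠ ⊤ → Subsingleton (Sylow p L))
    {L : Subgroup G} (hL : L ≠ ⊤) {P Q : Sylow p G} {x y : G} (hx : x ∈ L) (hy : y ∈ L)
    (hxP : x ∈ P) (hyQ : y ∈ Q) : x * y = y * x := by
  haveI := huniq L hL
  obtain ⟨S, hS⟩ := ((P.isPGroup').comap_of_injective L.subtype Subtype.coe_injective).exists_le_sylow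
  obtain ⟨S', hS'⟩ := ((Q.isPGroup').comap_of_injective L.subtype Subtype.coe_injective).exists_le_sylow
  obtain ⟨R, hR⟩ := (S.isPGroup'.map L.subtype).exists_le_sylow
  have h1 : x ∈ R := hR ⟨⟨x, hx⟩, hS hxP, rfl⟩
  have h2 : y ∈ R := hR ⟨⟨y, hy⟩, by rw [Subsingleton.elim S S']; exact hS' hyQ, rfl⟩
  exact hab R x h1 y h2

/-- If a proper normal subgroup contains a non-central element of `P`, then `P` is normal. -/
theorem normal_of_mem_proper_normal (P : Sylow p G)
    (hab : ∀ Q : Sylow p G, ∀ x ∈ Q, ∀ y ∈ Q, x * y = y * x)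
    (huniq : ∀ L : Subgroup G, L ≠ ⊤ → Subsingleton (Sylow p L))
    {M : Subgroup G} (hM : M.Normal) (hMtop : M ≠ ⊤) {x : G} (hxM : x ∈ M) (hxP : x ∈ P)
    (hxZ : x ∉ Subgroup.center G) : (P : Subgroup G).Normal := by
  refine ⟨fun u hu g => ?_⟩
  have hxg : g * x * g⁻¹ ∈ g • P := by
    rw [Sylow.smul_def]
    exact ⟨x, hxP, rfl⟩
  have hZ' : g * x * g⁻¹ ∉ Subgroup.center G := fun h => hxZ (by
    have h2 := (Subgroup.Normal.conj_mem inferInstance _ h g⁻¹ : _ ∈ Subgroup.center G)
    simpa [mul_assoc] using h2)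
  have hc := commute_of_proper hab huniq hMtop hxM (hM.conj_mem x hxM g) hxP hxg
  have heq := conj_mem_of_commute P hab huniq hxP hxZ hxg hZ' hc
  rw [heq, Sylow.smul_def]
  exact ⟨u, hu, rfl⟩

/-- An irreducible representation whose degree is less than `p` restricts irreducibly to a normal
subgroup of `p`-power index. -/
theorem isIrr_restrict {G : Type*} [Group G] [Fintype G] {p : ℕ} [Fact p.Prime] (K : Subgroup G)
    [K.Normal] [Fintype K] {χ : G → ℂ} (hχ : IsIrrCharacter G χ) {d e : ℕ} (hd : χ 1 = d)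
    (hdp : d < p) (he : K.index = p ^ e) : IsIrrCharacter K (fun k : K => χ k) := by
  classical
  haveI : Fintype (IrrCharacter K) := Fintype.ofFinite _
  obtain ⟨m, hm, hm'⟩ := IsCharacter.decompose (IsCharacter.restrict (IsIrrCharacter.isCharacter hχ) K)
  choose f hf0 hf using fun φ : IrrCharacter K => IsIrrCharacter.exists_degree φ.2
  have hsum : d = ∑ φ, m φ * f φ := by
    have h := congrFun hm 1
    simp only [OneMemClass.coe_one, hd, Finset.sum_apply, Pi.smul_apply, smul_eq_mul, hf] at h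
    exact_mod_cast h
  have hd0 : 0 < d := by
    obtain ⟨d', hd', hd''⟩ := IsIrrCharacter.exists_degree hχ
    have : d = d' := by exact_mod_cast hd.symm.trans hd''
    omega
  obtain ⟨θ, -, hθ⟩ := Finset.exists_ne_zero_of_sum_ne_zero (hsum ▸ hd0.ne' : ∑ φ, m φ * f φ ≠ 0)
  rw [mul_ne_zero_iff] at hθ
  obtain ⟨h1, h2⟩ := Cfsg.Agent.S0887.result K χ hχ (θ : K → ℂ) θ.2
    (by rw [hm' θ]; exact_mod_cast hθ.1) d (f θ) hd (hf θ)
  have hfd : f θ = d := by
    rw [he] at h2
    obtain ⟨i, -, hi⟩ := (Nat.dvd_prime_pow Fact.out).1 h2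
    rcases i with _ | i
    · exact Nat.eq_of_dvd_of_div_eq_one h1 (by simpa using hi)
    · exfalso
      have h3 : p ≤ d / f θ := by
        rw [hi]; exact Nat.le_self_pow (by omega) p
      have h4 := Nat.div_le_self d (f θ)
      omega
  have hle := Finset.add_sum_erase (Finset.univ : Finset (IrrCharacter K)) (fun φ => m φ * f φ)
    (Finset.mem_univ θ)
  have hm1 : m θ = 1 := by
    have h5 : m θ * f θ ≤ d := by omega
    rw [hfd] at h5
    have : m θ ≤ 1 := by
      by_contra h6
      have : 2 * d ≤ m θ * d := Nat.mul_le_mul_right d (by omega)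
      omega
    have := hθ.1
    omega
  have hz : ∀ φ : IrrCharacter K, φ ≠ θ → m φ = 0 := by
    intro φ hφ
    have hs : ∑ ψ ∈ Finset.univ.erase θ, m ψ * f ψ = 0 := by
      rw [hm1, hfd] at hle; omega
    have := Finset.sum_eq_zero_iff.mp hs φ (Finset.mem_erase.mpr ⟨hφ, Finset.mem_univ _⟩)
    rcases mul_eq_zero.mp this with h | h
    · exact h
    · exact absurd h (hf0 φ).ne'
  rw [hm, Finset.sum_eq_single θ (fun φ _ hφ => by rw [hz φ hφ, Nat.cast_zero, zero_smul])
    (fun h => absurd (Finset.mem_univ _) h), hm1, Nat.cast_one, one_smul]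
  exact θ.2

/-- A faithful character has an irreducible constituent nontrivial at a given nontrivial element. -/
theorem exists_constituent {G : Type*} [Group G] [Fintype G] {χ : G → ℂ} (hχ : IsCharacter G χ)
    {n : ℕ} (hn : χ 1 = n) {g : G} (hg : χ g ≠ χ 1) :
    ∃ φ : G → ℂ, IsIrrCharacter G φ ∧ φ g ≠ φ 1 ∧ ∃ d : ℕ, φ 1 = d ∧ d ≤ n := by
  classical
  haveI : Fintype (IrrCharacter G) := Fintype.ofFinite _
  obtain ⟨m, hm, -⟩ := IsCharacter.decompose hχ
  choose f hf0 hf using fun φ : IrrCharacter G => IsIrrCharacter.exists_degree φ.2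
  obtain ⟨φ, hmφ, hφ⟩ : ∃ φ : IrrCharacter G, m φ ≠ 0 ∧ (φ : G → ℂ) g ≠ (φ : G → ℂ) 1 := by
    by_contra hall
    push Not at hall
    refine hg ?_
    rw [hm]
    simp only [Finset.sum_apply, Pi.smul_apply, smul_eq_mul]
    refine Finset.sum_congr rfl fun φ _ => ?_
    by_cases h : m φ = 0
    · simp [h]
    · rw [hall φ h]
  refine ⟨φ, φ.2, hφ, f φ, hf φ, ?_⟩
  have h := congrFun hm 1
  simp only [Finset.sum_apply, Pi.smul_apply, smul_eq_mul, hn, hf] at h
  have h' : n = ∑ ψ, m ψ * f ψ := by exact_mod_cast h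
  rw [h']
  exact le_trans (Nat.le_mul_of_pos_left _ (Nat.pos_of_ne_zero hmφ))
    (Finset.single_le_sum (f := fun ψ => m ψ * f ψ) (fun _ _ => Nat.zero_le _) (Finset.mem_univ φ))

/-- A coprime action in which every invariant proper subgroup is centralised forces the fixed point
subgroup to be the centre, and then every irreducible representation of degree `< p - 1` is trivial
on the commutators with `a`. -/
theorem false_of_minimal {G : Type*} [Group G] [Fintype G] {p : ℕ} [Fact p.Prime]
    (K : Subgroup G) [K.Normal] (a : G) (e : ℕ) (ha : a ^ p ^ e = 1) (hK : ¬ p ∣ Nat.card K)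
    (hidx : ∃ i, K.index = p ^ i) (hgen : ∀ x : G, ∃ k ∈ K, ∃ i : ℕ, x = k * a ^ i)
    (hmove : ∃ k ∈ K, a * k ≠ k * a)
    (hmin : ∀ M : Subgroup G, M ≤ K → M ≠ K → (∀ m ∈ M, a * m * a⁻¹ ∈ M) → ∀ m ∈ M, a * m = m * a)
    {χ : G → ℂ} (hχ : IsCharacter G χ) (hfaith : ∀ g, χ g = χ 1 → g = 1)
    {n : ℕ} (hn : χ 1 = n) (hnp : n + 1 < p) : False := by
  classical
  have hpp : p.Prime := Fact.out
  have hord : ∀ m ∈ K, m ^ p ^ e = 1 → m = 1 := by
    intro m hm hm1
    refine orderOf_eq_one_iff.mp (Nat.eq_one_of_dvd_coprimes ((hpp.coprime_iff_not_dvd.mpr hK).pow_left e)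
      (orderOf_dvd_of_pow_eq_one hm1) ?_)
    exact Subgroup.orderOf_dvd_natCard K hm
  have hnorm : ∀ k ∈ K, a * k * a⁻¹ ∈ K := fun k hk => Subgroup.Normal.conj_mem inferInstance k hk a
  -- the iteration lemma
  have hgenK : ∀ M : Subgroup G, M ≤ K → (∀ m ∈ M, a * m * a⁻¹ ∈ M) →
      (∀ k ∈ K, k⁻¹ * (a * k * a⁻¹) ∈ M) → M = K := by
    intro M hMK hinv hcomm
    by_contra hne
    obtain ⟨k, hk, hak⟩ := hmove
    set m := k⁻¹ * (a * k * a⁻¹) with hm
    have hmM : m ∈ M := hcomm k hk
    have ham : a * m * a⁻¹ = m := by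
      rw [hmin M hMK hne hinv m hmM, mul_inv_cancel_right]
    have hiter : ∀ i : ℕ, a ^ i * k * (a ^ i)⁻¹ = k * m ^ i := by
      intro i
      induction i with
      | zero => simp
      | succ i ih =>
        have hpow : a * m ^ i * a⁻¹ = m ^ i := by
          rw [← conj_pow, ham]
        calc a ^ (i + 1) * k * (a ^ (i + 1))⁻¹ = a * (a ^ i * k * (a ^ i)⁻¹) * a⁻¹ := by
              rw [pow_succ']; group
          _ = a * (k * m ^ i) * a⁻¹ := by rw [ih]
          _ = (a * k * a⁻¹) * (a * m ^ i * a⁻¹) := by group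
          _ = k * m * m ^ i := by rw [hpow, hm, mul_inv_cancel_left]
          _ = k * m ^ (i + 1) := by rw [pow_succ', mul_assoc]
    have h1 := hiter (p ^ e)
    rw [ha, one_mul, inv_one, mul_one, left_eq_mul] at h1
    have h2 : m = 1 := hord m (hMK hmM) h1
    apply hak
    rw [hm, inv_mul_eq_one] at h2
    conv_rhs => rw [h2]
    group
  -- elements all of whose conjugates are fixed are central
  have hcentral : ∀ x ∈ K, (∀ k ∈ K, a * (k * x * k⁻¹) = (k * x * k⁻¹) * a) →
      x ∈ Subgroup.center G := by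
    intro x hx hfix
    have hax : a * x = x * a := by simpa using hfix 1 (one_mem K)
    have hM : K ⊓ Subgroup.centralizer ({x} : Set G) = K := by
      refine hgenK _ inf_le_left (fun m hm => ⟨hnorm m hm.1, ?_⟩) (fun k hk => ⟨?_, ?_⟩)
      · have h1 := Subgroup.mem_centralizer_singleton_iff.mp hm.2
        refine Subgroup.mem_centralizer_singleton_iff.mpr ?_
        have h2 : a * x * a⁻¹ = x := by rw [hax, mul_inv_cancel_right]
        calc a * m * a⁻¹ * x = a * m * a⁻¹ * (a * x * a⁻¹) := by rw [h2]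
          _ = a * (m * x) * a⁻¹ := by group
          _ = a * (x * m) * a⁻¹ := by rw [h1]
          _ = (a * x * a⁻¹) * (a * m * a⁻¹) := by group
          _ = x * (a * m * a⁻¹) := by rw [h2]
      · exact K.mul_mem (K.inv_mem hk) (hnorm k hk)
      · refine Subgroup.mem_centralizer_singleton_iff.mpr ?_
        have h2 : a⁻¹ * x = x * a⁻¹ := ((Commute.inv_left (show Commute a x from hax))).eq
        have h3 : a * (k * x * k⁻¹) * a⁻¹ = k * x * k⁻¹ := by rw [hfix k hk, mul_inv_cancel_right]
        calc k⁻¹ * (a * k * a⁻¹) * x = k⁻¹ * a * k * (a⁻¹ * x) := by group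
          _ = k⁻¹ * a * k * (x * a⁻¹) := by rw [h2]
          _ = k⁻¹ * (a * (k * x * k⁻¹) * a⁻¹) * (a * k * a⁻¹) := by group
          _ = k⁻¹ * (k * x * k⁻¹) * (a * k * a⁻¹) := by rw [h3]
          _ = x * (k⁻¹ * (a * k * a⁻¹)) := by group
    refine Subgroup.mem_center_iff.mpr fun g => ?_
    obtain ⟨k, hk, i, rfl⟩ := hgen g
    have h1 : Commute k x := Subgroup.mem_centralizer_singleton_iff.mp (hM.ge hk).2
    exact (h1.mul_left ((show Commute a x from hax).pow_left i)).eq
  set C : Subgroup G := K ⊓ Subgroup.centralizer ({a} : Set G) with hC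
  have hmemC : ∀ x, x ∈ C ↔ x ∈ K ∧ a * x = x * a := fun x => by
    rw [hC, Subgroup.mem_inf, Subgroup.mem_centralizer_singleton_iff, eq_comm (a := x * a)]
  have hCK : C ≠ K := fun h => by
    obtain ⟨k, hk, hak⟩ := hmove
    exact hak ((hmemC k).mp (h ▸ hk)).2
  -- K is a q-group
  have hqgroup : ∃ q : ℕ, q.Prime ∧ IsPGroup q K := by
    by_contra hall
    push Not at hall
    have hdvd : Nat.card K ∣ Nat.card C := by
      refine (Nat.dvd_iff_prime_pow_dvd_dvd _ _).mpr fun q k hq hqk => ?_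
      haveI : Fact q.Prime := ⟨hq⟩
      letI : MulDistribMulAction (Subgroup.zpowers a) K :=
        MulDistribMulAction.compHom K ((MulAut.conjNormal (H := K)).comp (Subgroup.zpowers a).subtype)
      have hpg : IsPGroup p (Subgroup.zpowers a) := by
        obtain ⟨j, -, hj⟩ := (Nat.dvd_prime_pow hpp).1 (orderOf_dvd_of_pow_eq_one ha)
        exact IsPGroup.of_card (n := j) (by rw [Nat.card_zpowers, hj])
      have hnd : ¬ p ∣ Nat.card (Sylow q K) := fun h => hK (h.trans
        (((default : Sylow q K).card_dvd_index).trans (Subgroup.index_dvd_card _)))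
      obtain ⟨Q, hQ⟩ := hpg.nonempty_fixed_point_of_prime_not_dvd_card (Sylow q K) hnd
      have hQtop : (Q : Subgroup K) ≠ ⊤ := fun h => hall q hq (by
        have := Q.isPGroup'
        rw [h] at this
        exact this.of_equiv Subgroup.topEquiv)
      have hM : (Q : Subgroup K).map K.subtype ≠ K := by
        intro h
        refine hQtop (Subgroup.map_injective K.subtype_injective ?_)
        rw [h, ← MonoidHom.range_eq_map, Subgroup.range_subtype]
      have hMC : (Q : Subgroup K).map K.subtype ≤ C := by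
        have hinv : ∀ m ∈ (Q : Subgroup K).map K.subtype, a * m * a⁻¹ ∈ (Q : Subgroup K).map K.subtype := by
          rintro m ⟨m', hm', rfl⟩
          refine ⟨(MulAut.conjNormal a) m', ?_, rfl⟩
          have h2 : ((⟨a, Subgroup.mem_zpowers a⟩ : Subgroup.zpowers a) • Q : Sylow q K) = Q := hQ _
          have h3 : (MulAut.conjNormal a) m' ∈
              (((⟨a, Subgroup.mem_zpowers a⟩ : Subgroup.zpowers a) • Q : Sylow q K) : Subgroup K) :=
            ⟨m', hm', rfl⟩
          rwa [h2] at h3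
        intro m hm
        exact (hmemC m).mpr ⟨Subgroup.map_subtype_le _ hm,
          hmin _ (Subgroup.map_subtype_le _) hM hinv m hm⟩
      refine dvd_trans ?_ (Subgroup.card_dvd_of_le hMC)
      rw [Subgroup.card_subtype, Q.card_eq_multiplicity]
      exact pow_dvd_pow q ((hq.pow_dvd_iff_le_factorization Nat.card_pos.ne').mp hqk)
    exact hCK (Subgroup.eq_of_le_of_card_ge inf_le_left (Nat.le_of_dvd Nat.card_pos hdvd))
  obtain ⟨q, hq, hKq⟩ := hqgroup
  haveI : Fact q.Prime := ⟨hq⟩
  haveI : Nontrivial K := by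
    obtain ⟨k, hk, hak⟩ := hmove
    exact ⟨⟨⟨k, hk⟩, 1, fun h => hak (by rw [show k = 1 from congrArg Subtype.val h, mul_one, one_mul])⟩⟩
  -- commutators of K are central
  have hD : ∀ k ∈ K, ∀ l ∈ K, k * l * k⁻¹ * l⁻¹ ∈ Subgroup.center G := by
    haveI : Group.IsNilpotent K := hKq.isNilpotent
    have hlt : commutator K < ⊤ := Group.IsSolvable.commutator_lt_top_of_nontrivial K
    set D := (commutator K).map K.subtype with hDdef
    haveI hDn : D.Normal := inferInstance
    have hDK : D ≠ K := fun h => hlt.ne (Subgroup.map_injective K.subtype_injective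
      (by rw [← hDdef, h, ← MonoidHom.range_eq_map, Subgroup.range_subtype]))
    have hDc : ∀ m ∈ D, a * m = m * a := hmin D (Subgroup.map_subtype_le _) hDK
      (fun m hm => hDn.conj_mem m hm a)
    intro k hk l hl
    have hmem : k * l * k⁻¹ * l⁻¹ ∈ D := ⟨⁅(⟨k, hk⟩ : K), (⟨l, hl⟩ : K)⁆,
      Subgroup.commutator_mem_commutator (Subgroup.mem_top _) (Subgroup.mem_top _), rfl⟩
    exact hcentral _ (Subgroup.map_subtype_le _ hmem) fun j hj => hDc _ (hDn.conj_mem _ hmem j)
  have hCZ : ∀ x ∈ C, x ∈ Subgroup.center G := by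
    intro x hx
    obtain ⟨hxK, hax⟩ := (hmemC x).mp hx
    refine hcentral x hxK fun k hk => ?_
    have h1 : Commute a (k * x * k⁻¹ * x⁻¹) := Subgroup.mem_center_iff.mp (hD k hk x hxK) a
    have h2 := h1.mul_right (show Commute a x from hax)
    simpa using h2.eq
  -- a constituent
  obtain ⟨k₀, hk₀, hak₀⟩ := hmove
  obtain ⟨φ, hφ, hφne, d, hd, hdn⟩ := exists_constituent hχ hn (g := k₀⁻¹ * (a * k₀ * a⁻¹))
    (fun h => hak₀ (by
      have h2 := hfaith _ h
      rw [inv_mul_eq_one] at h2
      conv_rhs => rw [h2]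
      group))
  haveI : Fintype K := Fintype.ofFinite K
  obtain ⟨i, hi⟩ := hidx
  have hθ := isIrr_restrict K hφ hd (by omega) hi
  obtain ⟨r, τ, hτ, hτφ⟩ := hφ
  haveI := hτ
  have hrd : r = d := by
    have := congrFun hτφ 1
    rw [hd, Representation.char_one, Module.finrank_fin_fun] at this
    exact_mod_cast this
  have hd0 : 0 < d := by
    have := CharApp.finrank_pos_of_irr τ
    rwa [Module.finrank_fin_fun, hrd] at this
  set S : Subgroup G :=
    { carrier := {x | x ∈ K ∧ ∀ g : G, τ x * τ g = τ g * τ x}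
      one_mem' := ⟨one_mem K, fun g => by rw [map_one, one_mul, mul_one]⟩
      mul_mem' := fun {x y} hx hy => ⟨mul_mem hx.1 hy.1, fun g => by
        rw [map_mul, mul_assoc, hy.2 g, ← mul_assoc, hx.2 g, mul_assoc]⟩
      inv_mem' := fun {x} hx => ⟨inv_mem hx.1, fun g => by
        calc τ x⁻¹ * τ g = τ x⁻¹ * (τ g * τ x) * τ x⁻¹ := by
              rw [mul_assoc, mul_assoc, ← map_mul τ x x⁻¹, mul_inv_cancel, map_one, mul_one]
          _ = τ x⁻¹ * (τ x * τ g) * τ x⁻¹ := by rw [hx.2 g]
          _ = τ g * τ x⁻¹ := by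
              rw [← mul_assoc, ← map_mul τ x⁻¹ x, inv_mul_cancel, map_one, one_mul]⟩ } with hS
  have hmemS : ∀ x, x ∈ S ↔ x ∈ K ∧ ∀ g : G, τ x * τ g = τ g * τ x := fun x => Iff.rfl
  have hSC : ∀ x ∈ S, x ∈ C := by
    have hne : S ≠ K := by
      intro h
      apply hφne
      have hk : k₀ ∈ S := h ▸ hk₀
      rw [← hτφ, Representation.char_one, character_eq_finrank_iff, map_mul, map_mul, map_mul,
        ← ((hmemS _).mp hk).2 a, mul_assoc (τ k₀) (τ a), ← map_mul τ a a⁻¹, mul_inv_cancel, map_one,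
        mul_one, ← map_mul, inv_mul_cancel, map_one]
      rfl
    intro x hx
    refine (hmemC x).mpr ⟨hx.1, hmin S (fun y hy => hy.1) hne (fun m hm => ?_) x hx⟩
    refine (hmemS _).mpr ⟨hnorm m hm.1, fun g => ?_⟩
    rw [map_mul, map_mul, ← hm.2 a, mul_assoc (τ m), ← map_mul τ a a⁻¹, mul_inv_cancel, map_one, mul_one]
    exact hm.2 g
  have hCS : ∀ x ∈ C, x ∈ S := fun x hx => (hmemS x).mpr ⟨hx.1, fun g => by
    rw [← map_mul, ← map_mul, Subgroup.mem_center_iff.mp (hCZ x hx) g]⟩
  -- values on K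
  have hval : ∀ k : K, ‖φ (k : G)‖ ^ 2 = if (k : G) ∈ C then (d : ℝ) ^ 2 else 0 := by
    intro k
    rw [← hτφ]
    split_ifs with hk
    · obtain ⟨c, hc⟩ := CharApp.exists_scalar_of_mem_center τ (hCZ k hk)
      rw [(norm_character_eq_iff τ (k : G)).mpr ⟨c, hc⟩, Module.finrank_fin_fun, hrd]
    · -- some element of K moves τ k
      have hnc : ∃ l : K, τ (l : G) * τ (k : G) ≠ τ (k : G) * τ (l : G) := by
        by_contra hcomm
        push Not at hcomm
        let τK : Representation ℂ K (Fin r → ℂ) := τ.comp K.subtype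
        haveI : τK.IsIrreducible := by
          obtain ⟨f, ν, hν, hνθ⟩ := hθ
          obtain ⟨E⟩ := equiv_of_character_eq ν τK (by rw [hνθ, ← hτφ]; rfl)
          exact isIrreducible_congr E hν
        obtain ⟨c, hc⟩ := CharApp.exists_scalar_of_commute τK (τ (k : G))
          (fun l => (hcomm l).symm)
        refine hk (hSC _ ((hmemS _).mpr ⟨k.2, fun g => ?_⟩))
        rw [hc, smul_mul_assoc, mul_smul_comm, one_mul, mul_one]
      obtain ⟨l, hl⟩ := hnc
      obtain ⟨c, hc⟩ := CharApp.exists_scalar_of_mem_center τ (hD l l.2 k k.2)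
      have hc1 : c ≠ 1 := by
        intro h1
        rw [h1, one_smul] at hc
        apply hl
        have hh : (l : G) * k = ((l : G) * k * (l : G)⁻¹ * (k : G)⁻¹) * ((k : G) * l) := by group
        rw [← map_mul, hh, map_mul, hc, one_mul, map_mul]
      have hinv : τ.character (k : G) = c * τ.character (k : G) := by
        conv_lhs => rw [← isClassFunction_character τ (k : G) (l : G)]
        rw [show (l : G) * k * (l : G)⁻¹ = ((l : G) * k * (l : G)⁻¹ * (k : G)⁻¹) * k by group]
        show LinearMap.trace ℂ _ (τ _) = c * LinearMap.trace ℂ _ (τ _)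
        rw [map_mul, hc, smul_mul_assoc, one_mul, map_smul, smul_eq_mul]
      have h0 : τ.character (k : G) = 0 := by
        have : (c - 1) * τ.character (k : G) = 0 := by rw [sub_mul, one_mul, ← hinv, sub_self]
        rcases mul_eq_zero.mp this with h | h
        · exact absurd (sub_eq_zero.mp h) hc1
        · exact h
      rw [h0]; simp
  have hcount : Nat.card K = Nat.card C * d ^ 2 := by
    have h := classInner_irr_self hθ
    rw [classInner_self_eq, Complex.ofReal_eq_one, inv_mul_eq_one₀ (Nat.cast_ne_zero.mpr Nat.card_pos.ne'),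
      Finset.sum_congr rfl fun k _ => hval k, ← Finset.sum_filter, Finset.sum_const, nsmul_eq_mul] at h
    have hcardC : (Finset.univ.filter fun k : K => (k : G) ∈ C).card = Nat.card C := by
      rw [← Nat.card_congr (Subgroup.subgroupOfEquivOfLe (inf_le_left : C ≤ K)).toEquiv,
        Nat.card_eq_fintype_card, Fintype.card_subtype]
      rfl
    rw [hcardC] at h
    exact_mod_cast h
  -- fixed points
  have hmod : Nat.card K ≡ Nat.card C [MOD p] := by
    letI : MulDistribMulAction (Subgroup.zpowers a) K :=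
      MulDistribMulAction.compHom K ((MulAut.conjNormal (H := K)).comp (Subgroup.zpowers a).subtype)
    have hpg : IsPGroup p (Subgroup.zpowers a) := by
      obtain ⟨j, -, hj⟩ := (Nat.dvd_prime_pow hpp).1 (orderOf_dvd_of_pow_eq_one ha)
      exact IsPGroup.of_card (n := j) (by rw [Nat.card_zpowers, hj])
    refine (hpg.card_modEq_card_fixedPoints K).trans ?_
    refine congrArg (· % p) ?_
    rw [← Nat.card_congr (Subgroup.subgroupOfEquivOfLe (inf_le_left : C ≤ K)).toEquiv]
    refine Nat.card_congr (Equiv.subtypeEquivRight fun k => ?_)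
    rw [MulAction.mem_fixedPoints]
    constructor
    · intro h
      show (k : G) ∈ C
      refine (hmemC _).mpr ⟨k.2, ?_⟩
      have h1 : a * (k : G) * a⁻¹ = k := congrArg Subtype.val (h ⟨a, Subgroup.mem_zpowers a⟩)
      exact mul_inv_eq_iff_eq_mul.mp h1
    · rintro hk ⟨b, hb⟩
      obtain ⟨j, rfl⟩ := Subgroup.mem_zpowers_iff.mp hb
      apply Subtype.ext
      show a ^ j * (k : G) * (a ^ j)⁻¹ = k
      rw [((show Commute a (k : G) from ((hmemC _).mp hk).2).zpow_left j).eq, mul_inv_cancel_right]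
  rw [hcount] at hmod
  have hpC : ¬ p ∣ Nat.card C := fun h => hK (h.trans (Subgroup.card_dvd_of_le inf_le_left))
  have hd1 : d = 1 := by
    have h2 : d ^ 2 ≡ 1 [MOD p] :=
      Nat.ModEq.cancel_left_of_coprime (hpp.coprime_iff_not_dvd.mpr hpC) (by simpa using hmod)
    have h3 : p ∣ (d + 1) * (d - 1) := by
      rw [← Nat.sq_sub_sq, one_pow]
      exact (Nat.modEq_iff_dvd' (Nat.one_le_pow _ _ hd0)).mp h2.symm
    rcases hpp.dvd_mul.mp h3 with h | h
    · have := Nat.le_of_dvd (by omega) h; omega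
    · rcases Nat.eq_zero_or_pos (d - 1) with h0 | h0
      · omega
      · have := Nat.le_of_dvd h0 h; omega
  rw [hd1, one_pow, mul_one] at hcount
  exact hCK (Subgroup.eq_of_le_of_card_ge inf_le_left hcount.le)

end Cfsg.Agent.BlichfeldtSylow
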